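import Cfsg.Agent.ThFive.Quat
import Cfsg.Agent.BpSpor.UniqueCrit

/-!
# Th, `p = 5` (helper96): abstract part

`H` finite, `z` central of odd prime order `p`, `s` an involution which is the only involution of `C = C_H(s)`, every
normal subgroup of odd order of `C` has order dividing `p`. Then `H = N C`, `N` normal of odd order, `N ∩ C = ⟨z⟩`, and
`s` inverts the abelian group `N / ⟨z⟩`.
-/

set_option autoImplicit false
set_option linter.unusedSectionVars false

namespace Cfsg.Agent.ThFive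

open Subgroup Cfsg
open Cfsg.Agent.BpSpor

universe u

section Gen

variable {Q : Type*} [Group Q]

/-- elements of exponent `r` in an abelian subgroup -/
def tors (B : Subgroup Q) (hB : ∀ a ∈ B, ∀ b ∈ B, a * b = b * a) (r : ℕ) : Subgroup Q where
  carrier := {y | y ∈ B ∧ y ^ r = 1}
  mul_mem' := by
    rintro a b ⟨ha, ha'⟩ ⟨hb, hb'⟩
    exact ⟨mul_mem ha hb, by rw [(show Commute a b from hB a ha b hb).mul_pow, ha', hb', one_mul]⟩
  one_mem' := ⟨one_mem _, one_pow _⟩
  inv_mem' := by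
    rintro a ⟨ha, ha'⟩
    exact ⟨inv_mem ha, by rw [inv_pow, ha', inv_one]⟩

theorem tors_normal {B : Subgroup Q} {hB : ∀ a ∈ B, ∀ b ∈ B, a * b = b * a} {r : ℕ} (hn : B.Normal) :
    (tors B hB r).Normal := by
  refine ⟨?_⟩
  rintro a ⟨ha, ha'⟩ g
  exact ⟨hn.conj_mem a ha g, by rw [conj_pow, ha', mul_one, mul_inv_cancel]⟩

/-- `K` normal, `K ∩ B = 1` -/
theorem card_mul_dvd_of_inf [Finite Q] (K B : Subgroup Q) [K.Normal] (h : K ⊓ B = ⊥) :
    Nat.card ↥K * Nat.card ↥B ∣ Nat.card Q := by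
  let j : ↥B →* Q ⧸ K := (QuotientGroup.mk' K).comp B.subtype
  have hj : Function.Injective j := by
    rw [injective_iff_map_eq_one]
    intro b hb
    have h1 : (b : Q) ∈ K ⊓ B := ⟨(QuotientGroup.eq_one_iff _).1 hb, b.2⟩
    rw [h, mem_bot] at h1
    exact Subtype.ext h1
  rw [card_eq_card_quotient_mul_card_subgroup K, mul_comm]
  exact Nat.mul_dvd_mul_right (card_dvd_of_injective j hj) _

/-- fixed points of an element of order `p` (or 1) -/
theorem card_fix {p : ℕ} [hp : Fact p.Prime] [Finite Q] (A : Subgroup Q) [hn : A.Normal] {x : Q} (hx : x ^ p = 1) :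
    Nat.card ↥A ≡ Nat.card ↥(A ⊓ centralizer ({x} : Set Q)) [MOD p] := by
  let _ : MulAction ↥(zpowers x) ↥A :=
    MulAction.compHom ↥A (((MulAut.conjNormal : Q →* MulAut ↥A)).comp (zpowers x).subtype)
  have hsm : ∀ (g : ↥(zpowers x)) (a : ↥A), ((g • a : ↥A) : Q) = g * a * (g : Q)⁻¹ :=
    fun g a => MulAut.conjNormal_apply (g : Q) a
  have hP : IsPGroup p ↥(zpowers x) := by
    have hd : orderOf x ∣ p ^ 1 := by
      rw [pow_one]
      exact orderOf_dvd_of_pow_eq_one hx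
    obtain ⟨k, -, hk⟩ := (Nat.dvd_prime_pow hp.out).1 hd
    exact IsPGroup.of_card (n := k) (by rw [Nat.card_zpowers, hk])
  have h1 := hP.card_modEq_card_fixedPoints ↥A
  refine h1.trans ?_
  have h2 : Nat.card (MulAction.fixedPoints ↥(zpowers x) ↥A) = Nat.card ↥(A ⊓ centralizer ({x} : Set Q)) := by
    refine Nat.card_congr
      { toFun := fun a => ⟨((a : ↥A) : Q), ⟨(a : ↥A).2, ?_⟩⟩
        invFun := fun a => ⟨⟨(a : Q), a.2.1⟩, ?_⟩
        left_inv := fun a => rfl
        right_inv := fun a => rfl }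
    · change ((a : ↥A) : Q) ∈ centralizer ({x} : Set Q)
      rw [mem_centralizer_singleton_iff]
      have h3 := congrArg Subtype.val (a.2 ⟨x, mem_zpowers x⟩)
      rw [hsm] at h3
      exact (mul_inv_eq_iff_eq_mul.1 h3).symm
    · rintro ⟨g, hg⟩
      apply Subtype.ext
      rw [hsm]
      have h3 : (a : Q) * x = x * a := mem_centralizer_singleton_iff.1 a.2.2
      have h4 : zpowers x ≤ centralizer ({(a : Q)} : Set Q) :=
        zpowers_le.2 (mem_centralizer_singleton_iff.2 h3.symm)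
      have h5 : g * (a : Q) = a * g := mem_centralizer_singleton_iff.1 (h4 hg)
      change g * (a : Q) * g⁻¹ = a
      rw [h5, mul_inv_cancel_right]
  rw [h2]

theorem odd_pow_mem {N : Subgroup Q} {v : Q} {m : ℕ} (hm : Odd m) (h2 : v ^ 2 ∈ N) (h1 : v ^ m = 1) : v ∈ N := by
  obtain ⟨k, rfl⟩ := hm
  have h3 : v = (v ^ 2) ^ (k + 1) * (v ^ (2 * k + 1))⁻¹ := by
    rw [h1, inv_one, mul_one, ← pow_mul]
    have h4 : 2 * (k + 1) = 2 * k + 1 + 1 := by ring
    rw [h4, pow_succ, h1, one_mul]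
  rw [h3, h1, inv_one, mul_one]
  exact pow_mem h2 _

theorem eq_one_of_sq_odd {v : Q} {m : ℕ} (hm : Odd m) (h2 : v * v = 1) (h1 : v ^ m = 1) : v = 1 := by
  have h3 := odd_pow_mem (N := (⊥ : Subgroup Q)) hm (by rw [pow_two, h2]; exact one_mem _) h1
  exact mem_bot.1 h3

end Gen

section Core

variable {H : Type u} [Group H] [Finite H]

/-- the situation of the file -/
structure Sit (s z : H) (p : ℕ) : Prop where
  prime : p.Prime
  ne_two : p ≠ 2
  os : orderOf s = 2
  uniq : ∀ u : H, orderOf u = 2 → u * s = s * u → u = s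
  cen : z ∈ center H
  oz : orderOf z = p
  odd : ∀ K : Subgroup ↥(centralizer ({s} : Set H)), K.Normal → Odd (Nat.card ↥K) → Nat.card ↥K ∣ p

namespace Sit

variable {s z : H} {p : ℕ} (h : Sit s z p)
include h

theorem podd : Odd p := h.prime.odd_of_ne_two h.ne_two

theorem ss : s * s = 1 := by rw [← pow_two, ← h.os, pow_orderOf_eq_one]

theorem s_ne : s ≠ 1 := by
  intro h1
  have h2 := h.os
  rw [h1, orderOf_one] at h2
  norm_num at h2

theorem z_comm (g : H) : g * z = z * g := mem_center_iff.1 h.cen g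

theorem zc_comm {c : H} (hc : c ∈ zpowers z) (g : H) : g * c = c * g :=
  mem_center_iff.1 ((zpowers_le.2 h.cen) hc) g

theorem c_pow {c : H} (hc : c ∈ zpowers z) : c ^ p = 1 := by
  obtain ⟨k, rfl⟩ := mem_zpowers_iff.1 hc
  rw [← zpow_natCast, ← zpow_mul, mul_comm, zpow_mul, zpow_natCast, ← h.oz, pow_orderOf_eq_one, one_zpow]

theorem normalZ : (zpowers z).Normal := by
  refine ⟨fun x hx g => ?_⟩
  rw [h.zc_comm hx g, mul_inv_cancel_right]
  exact hx

theorem exists_core : ∃ N : Subgroup H, N.Normal ∧ Odd (Nat.card ↥N) ∧ z ∈ N ∧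
    N ⊔ centralizer ({s} : Set H) = ⊤ ∧ N ⊓ centralizer ({s} : Set H) ≤ zpowers z := by
  have : Fact (Nat.Prime 2) := ⟨Nat.prime_two⟩
  obtain ⟨N0, hN0, hodd0, hsup0⟩ := CpAut.TwoCov.exists_odd_sup h.os (fun u hu' hc => by
    by_cases h1 : u = 1
    · exact Or.inl h1
    · exact Or.inr (h.uniq u (orderOf_eq_prime (by rw [pow_two, hu']) h1) hc))
  have hZ := h.normalZ
  have hoddN : Odd (Nat.card ↥(N0 ⊔ zpowers z)) := by
    have h1 : Nat.card ↥N0 * N0.relIndex (N0 ⊔ zpowers z) = Nat.card ↥(N0 ⊔ zpowers z) := by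
      rw [← relIndex_bot_left, ← relIndex_bot_left]
      exact relIndex_mul_relIndex ⊥ N0 _ bot_le le_sup_left
    rw [← h1]
    refine hodd0.mul ?_
    rw [sup_comm, relIndex_sup_right]
    refine Odd.of_dvd_nat h.podd ?_
    rw [← h.oz, ← Nat.card_zpowers]
    exact relIndex_dvd_card _ _
  refine ⟨N0 ⊔ zpowers z, inferInstance, hoddN, mem_sup_right (mem_zpowers z), ?_, ?_⟩
  · rw [eq_top_iff, ← hsup0]
    exact sup_le_sup_right le_sup_left _
  · set N := N0 ⊔ zpowers z with hN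
    have hNn : N.Normal := inferInstance
    have hzC : z ∈ centralizer ({s} : Set H) := mem_centralizer_singleton_iff.2 (h.z_comm s).symm
    have h1 : (N.subgroupOf (centralizer ({s} : Set H))).Normal := inferInstance
    have h2 : Odd (Nat.card ↥(N.subgroupOf (centralizer ({s} : Set H)))) := by
      refine Odd.of_dvd_nat hoddN ?_
      have e := (N.subgroupOf (centralizer ({s} : Set H))).equivMapOfInjective (centralizer ({s} : Set H)).subtype
        (centralizer ({s} : Set H)).subtype_injective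
      rw [Nat.card_congr e.toEquiv, subgroupOf_map_subtype]
      exact card_dvd_of_le inf_le_left
    have h3 := h.odd _ h1 h2
    have h4 : zpowers (⟨z, hzC⟩ : ↥(centralizer ({s} : Set H))) ≤ N.subgroupOf (centralizer ({s} : Set H)) :=
      zpowers_le.2 (mem_subgroupOf.2 (mem_sup_right (mem_zpowers z)))
    have h5 : zpowers (⟨z, hzC⟩ : ↥(centralizer ({s} : Set H))) = N.subgroupOf (centralizer ({s} : Set H)) := by
      refine eq_of_le_of_card_ge h4 ?_
      rw [Nat.card_zpowers, Subgroup.orderOf_mk, h.oz]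
      exact Nat.le_of_dvd h.prime.pos h3
    rintro n ⟨hn, hnC⟩
    have h6 : (⟨n, hnC⟩ : ↥(centralizer ({s} : Set H))) ∈ zpowers (⟨z, hzC⟩ : ↥(centralizer ({s} : Set H))) := by
      rw [h5]
      exact mem_subgroupOf.2 hn
    obtain ⟨k, hk⟩ := mem_zpowers_iff.1 h6
    exact mem_zpowers_iff.2 ⟨k, congrArg Subtype.val hk⟩

end Sit

/-- the group `N` -/
structure Core (s z : H) (p : ℕ) (N : Subgroup H) : Prop extends Sit s z p where
  normal : N.Normal
  oddN : Odd (Nat.card ↥N)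
  zN : z ∈ N
  sup : N ⊔ centralizer ({s} : Set H) = ⊤
  inf : N ⊓ centralizer ({s} : Set H) ≤ zpowers z

theorem Sit.core {s z : H} {p : ℕ} (h : Sit s z p) : ∃ N, Core s z p N := by
  obtain ⟨N, h1, h2, h3, h4, h5⟩ := h.exists_core
  exact ⟨N, { toSit := h, normal := h1, oddN := h2, zN := h3, sup := h4, inf := h5 }⟩

namespace Core

variable {s z : H} {p : ℕ} {N : Subgroup H} (h : Core s z p N)
include h

theorem pow_card {n : H} (hn : n ∈ N) : n ^ Nat.card ↥N = 1 :=
  congrArg Subtype.val (pow_card_eq_one' (x := (⟨n, hn⟩ : ↥N)))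

/-- inverted elements of odd order are in `N` -/
theorem mem_of_inv {v : H} (hv : s * v * s⁻¹ = v⁻¹) {m : ℕ} (hm : Odd m) (h1 : v ^ m = 1) : v ∈ N := by
  have hn := h.normal
  refine odd_pow_mem hm ?_ h1
  have h2 : v ∈ N ⊔ centralizer ({s} : Set H) := by rw [h.sup]; exact mem_top v
  obtain ⟨n, hn', c, hc, rfl⟩ := mem_sup_of_normal_left.1 h2
  have h3 : c * s = s * c := mem_centralizer_singleton_iff.1 hc
  have h4 : ((n * c) ^ 2)⁻¹ = (s * n * s⁻¹) * n⁻¹ := by
    calc ((n * c) ^ 2)⁻¹ = (n * c)⁻¹ * (n * c)⁻¹ := by rw [pow_two, mul_inv_rev]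
      _ = s * (n * c) * s⁻¹ * (n * c)⁻¹ := by rw [hv]
      _ = s * n * (c * s⁻¹) * c⁻¹ * n⁻¹ := by group
      _ = s * n * s⁻¹ * n⁻¹ := by
        have h5 : c * s⁻¹ = s⁻¹ * c := by
          calc c * s⁻¹ = s⁻¹ * (s * c) * s⁻¹ := by group
            _ = s⁻¹ * c := by rw [← h3]; group
        rw [h5]
        group
  have h5 : ((n * c) ^ 2)⁻¹ ∈ N := by
    rw [h4]
    exact mul_mem (hn.conj_mem n hn' s) (inv_mem hn')
  exact inv_mem_iff.1 h5

/-- the quotient: `s` inverts `N / ⟨z⟩` -/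
theorem quot [hZ : (zpowers z).Normal] :
    (∀ w ∈ N.map (QuotientGroup.mk' (zpowers z)), (QuotientGroup.mk' (zpowers z) s) * w *
      (QuotientGroup.mk' (zpowers z) s)⁻¹ = w⁻¹) ∧
    ∀ a ∈ N.map (QuotientGroup.mk' (zpowers z)), ∀ b ∈ N.map (QuotientGroup.mk' (zpowers z)), a * b = b * a := by
  have hn := h.normal
  have hNn : (N.map (QuotientGroup.mk' (zpowers z))).Normal :=
    hn.map _ (QuotientGroup.mk'_surjective _)
  refine inv_of_free (by rw [← map_mul, h.toSit.ss, map_one]) ?_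
  rw [eq_bot_iff]
  rintro _ ⟨⟨n, hn', rfl⟩, hc⟩
  have h1 : QuotientGroup.mk' (zpowers z) n * QuotientGroup.mk' (zpowers z) s =
      QuotientGroup.mk' (zpowers z) s * QuotientGroup.mk' (zpowers z) n := mem_centralizer_singleton_iff.1 hc
  rw [← map_mul, ← map_mul] at h1
  have h2 : (n * s)⁻¹ * (s * n) ∈ zpowers z := QuotientGroup.eq.1 h1
  set c := (n * s)⁻¹ * (s * n) with hcdef
  have h3 : s * n = n * s * c := by rw [hcdef]; group
  have h4 : s * n = n * c * s := by
    rw [h3, mul_assoc, h.toSit.zc_comm h2 s, ← mul_assoc]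
  have h5 : c * c = 1 := by
    have h6 : n * c * c = n := by
      have h7 : s * (s * n) = n := by rw [← mul_assoc, h.toSit.ss, one_mul]
      have h8 : s * (s * n) = n * (c * c) := by
        calc s * (s * n) = s * (n * c * s) := by rw [h4]
          _ = (s * n) * c * s := by simp only [mul_assoc]
          _ = n * c * s * c * s := by rw [h4]
          _ = n * c * (s * c) * s := by simp only [mul_assoc]
          _ = n * c * (c * s) * s := by rw [h.toSit.zc_comm h2 s]
          _ = n * (c * c) * (s * s) := by simp only [mul_assoc]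
          _ = n * (c * c) := by rw [h.toSit.ss, mul_one]
      rw [mul_assoc, ← h8, h7]
    rw [mul_assoc] at h6
    exact mul_eq_left.1 h6
  have h6 : c = 1 := eq_one_of_sq_odd h.toSit.podd h5 (h.toSit.c_pow h2)
  rw [h6, mul_one] at h4
  have h7 : n ∈ zpowers z := h.inf ⟨hn', mem_centralizer_singleton_iff.2 h4.symm⟩
  rw [mem_bot]
  exact (QuotientGroup.eq_one_iff n).2 h7

/-- an inverted element is not central modulo `z` -/
theorem not_mem_of_inv {v : H} (hv : s * v * s⁻¹ = v⁻¹) {m : ℕ} (hm : Odd m) (h1 : v ^ m = 1) (hv1 : v ≠ 1) :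
    v ∉ zpowers z := by
  intro h2
  apply hv1
  refine eq_one_of_sq_odd hm ?_ h1
  have h3 : s * v * s⁻¹ = v := by rw [h.toSit.zc_comm h2 s, mul_inv_cancel_right]
  rw [h3] at hv
  nth_rewrite 2 [hv]
  exact mul_inv_cancel v

end Core

end Core

namespace Core

section Lift

variable {H : Type u} [Group H] [Finite H] {s z : H} {p : ℕ} {N : Subgroup H} (h : Core s z p N)
include h

/-- `k`-th powers, `p ∣ k` -/
theorem pow_eq_of_mk_eq {x y : H} {k : ℕ} (hk : p ∣ k) (hxy : x⁻¹ * y ∈ zpowers z) : x ^ k = y ^ k := by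
  set c := x⁻¹ * y with hc
  have h1 : y = x * c := by rw [hc]; group
  have h2 : Commute x c := h.toSit.zc_comm hxy x
  obtain ⟨m, rfl⟩ := hk
  rw [h1, h2.mul_pow, pow_mul c, h.toSit.c_pow hxy, one_pow, mul_one]

/-- an element of `N`: `s n s⁻¹ = n⁻¹` modulo `z` -/
theorem inv_mem_Z {n : H} (hn : n ∈ N) : (s * n * s⁻¹)⁻¹ * n⁻¹ ∈ zpowers z := by
  have hZ := h.toSit.normalZ
  have h1 := h.quot.1 (QuotientGroup.mk' (zpowers z) n) ⟨n, hn, rfl⟩
  rw [← map_inv, ← map_mul, ← map_mul, ← map_inv] at h1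
  exact QuotientGroup.eq.1 h1

theorem inv_pow_N {n : H} (hn : n ∈ N) {k : ℕ} (hk : p ∣ k) : s * n ^ k * s⁻¹ = (n ^ k)⁻¹ := by
  have h1 := h.pow_eq_of_mk_eq hk (h.inv_mem_Z hn)
  rw [← conj_pow, h1, inv_pow]

theorem mod_one {r k : ℕ} {a : H} (ha : a ^ r = 1) (hk : k % r = 1) : a ^ k = a := by
  have h1 := Nat.div_add_mod k r
  rw [hk] at h1
  rw [← h1, pow_succ, pow_mul, ha, one_pow, one_mul]

/-- **an inverted `r`-element which commutes with `t`** -/
theorem exists_fixed {r : ℕ} (hr : r.Prime) (hr2 : r ≠ 2) {k : ℕ} (hk1 : k % r = 1) (hk0 : p ∣ k) {t : H}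
    (ht : t ^ r = 1) {v : H} {n : ℕ} (hv : v ^ r ^ n = 1) (hv1 : v ≠ 1) (hsv : s * v * s⁻¹ = v⁻¹) :
    ∃ w : H, w ≠ 1 ∧ w ^ r = 1 ∧ w * t = t * w ∧ s * w * s⁻¹ = w⁻¹ := by
  have : Fact r.Prime := ⟨hr⟩
  have hrodd : Odd r := hr.odd_of_ne_two hr2
  have hZ := h.toSit.normalZ
  -- an element of order `r`
  obtain ⟨m, -, hm⟩ := (Nat.dvd_prime_pow hr).1 (orderOf_dvd_of_pow_eq_one hv)
  have hm0 : m ≠ 0 := by
    rintro rfl
    rw [pow_zero, orderOf_eq_one_iff] at hm
    exact hv1 hm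
  obtain ⟨m, rfl⟩ := Nat.exists_eq_succ_of_ne_zero hm0
  set v' := v ^ r ^ m with hv'
  have hv'r : v' ^ r = 1 := by
    rw [hv', ← pow_mul, ← pow_succ, ← hm, pow_orderOf_eq_one]
  have hv'1 : v' ≠ 1 := by
    intro h1
    have h2 := orderOf_dvd_of_pow_eq_one h1
    rw [hm] at h2
    have h3 := (Nat.pow_dvd_pow_iff_le_right hr.one_lt).1 h2
    exact absurd h3 (Nat.not_succ_le_self m)
  have hv's : s * v' * s⁻¹ = v'⁻¹ := by rw [hv', ← conj_pow, hsv, inv_pow]
  have hv'N : v' ∈ N := h.mem_of_inv hv's hrodd hv'r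
  have hv'Z : v' ∉ zpowers z := h.not_mem_of_inv hv's hrodd hv'r hv'1
  obtain ⟨hinv, hcomm⟩ := h.quot
  set π := QuotientGroup.mk' (zpowers z) with hπ
  have hn := h.normal
  have hNb : (N.map π).Normal := hn.map _ (QuotientGroup.mk'_surjective _)
  have hA : (tors (N.map π) hcomm r).Normal := tors_normal hNb
  set A := tors (N.map π) hcomm r with hAdef
  have hvA : π v' ∈ A := ⟨⟨v', hv'N, rfl⟩, by rw [← map_pow, hv'r, map_one]⟩
  have hvne : π v' ≠ 1 := fun h1 => hv'Z ((QuotientGroup.eq_one_iff v').1 h1)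
  have hPA : IsPGroup r ↥A := by
    intro a
    exact ⟨1, Subtype.ext (by rw [pow_one]; exact a.2.2)⟩
  have hfix := card_fix (p := r) A (x := π t) (by rw [← map_pow, ht, map_one])
  have hrA : r ∣ Nat.card ↥A := by
    obtain ⟨j, hj⟩ := IsPGroup.iff_card.1 hPA
    have hj0 : j ≠ 0 := by
      rintro rfl
      rw [pow_zero, card_eq_one] at hj
      rw [hj, mem_bot] at hvA
      exact hvne hvA
    rw [hj]
    exact dvd_pow_self r hj0
  have hrF : r ∣ Nat.card ↥(A ⊓ centralizer ({π t} : Set (H ⧸ zpowers z))) :=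
    (Nat.modEq_zero_iff_dvd.1 (hfix.symm.trans (Nat.modEq_zero_iff_dvd.2 hrA)))
  obtain ⟨a, ha⟩ := exists_prime_orderOf_dvd_card' r hrF
  have ha1 : ((a : ↥(A ⊓ centralizer ({π t} : Set (H ⧸ zpowers z)))) : H ⧸ zpowers z) ≠ 1 := by
    intro h1
    have h2 : a = 1 := Subtype.ext h1
    rw [h2, orderOf_one] at ha
    exact hr.ne_one ha.symm
  obtain ⟨⟨⟨n', hn', hn''⟩, har⟩, hat⟩ := a.2
  have hat' : (a : H ⧸ zpowers z) * π t = π t * a := mem_centralizer_singleton_iff.1 hat
  rw [← hn''] at har hat' ha1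
  have hcm : (n' * t)⁻¹ * (t * n') ∈ zpowers z := by
    rw [← map_mul, ← map_mul] at hat'
    exact QuotientGroup.eq.1 hat'
  have hnr : n' ^ r ∈ zpowers z := by
    rw [← map_pow] at har
    exact (QuotientGroup.eq_one_iff _).1 har
  refine ⟨n' ^ k, ?_, ?_, ?_, h.inv_pow_N hn' hk0⟩
  · intro h1
    apply ha1
    have h2 : (π n') ^ k = 1 := by rw [← map_pow, h1, map_one]
    have h3 := Nat.div_add_mod k r
    rw [hk1] at h3
    rw [← h3, pow_succ, pow_mul, har, one_pow, one_mul] at h2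
    exact h2
  · obtain ⟨j, rfl⟩ := hk0
    rw [← pow_mul, mul_comm, pow_mul, pow_mul, h.toSit.c_pow hnr, one_pow]
  · have h1 : (n')⁻¹ * (t * n' * t⁻¹) ∈ zpowers z := by
      have h2 := hZ.conj_mem _ hcm t
      have h3 : t * ((n' * t)⁻¹ * (t * n')) * t⁻¹ = n'⁻¹ * (t * n' * t⁻¹) := by group
      rwa [h3] at h2
    have h2 := h.pow_eq_of_mk_eq hk0 h1
    rw [conj_pow] at h2
    exact (mul_inv_eq_iff_eq_mul.1 h2.symm).symm

/-- **`r²` does not divide the order** -/
theorem not_sq_dvd {r : ℕ} (hr : r.Prime) {k : ℕ} (hk1 : k % r = 1) (hk0 : p ∣ k)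
    (hA : ∀ w : H, w ^ r = 1 → s * w * s⁻¹ = w⁻¹ → w = 1)
    (hC : ¬ r ^ 2 ∣ Nat.card ↥(centralizer ({s} : Set H))) : ¬ r ^ 2 ∣ Nat.card H := by
  have : Fact r.Prime := ⟨hr⟩
  intro hd
  have h1 : ¬ r ∣ Nat.card ↥N := by
    intro h1
    obtain ⟨n, hn⟩ := exists_prime_orderOf_dvd_card' r h1
    have hnr : (n : H) ^ r = 1 := by
      rw [← hn, ← Subgroup.orderOf_coe, pow_orderOf_eq_one]
    have h2 := h.inv_pow_N n.2 hk0
    rw [h.mod_one hnr hk1] at h2
    have h3 := hA _ hnr h2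
    have h4 : n = 1 := Subtype.ext h3
    rw [h4, orderOf_one] at hn
    exact hr.ne_one hn.symm
  rw [← card_mul_index N] at hd
  have h2 : r ^ 2 ∣ N.index :=
    Nat.Coprime.dvd_of_dvd_mul_left (Nat.Coprime.pow_left 2 ((hr.coprime_iff_not_dvd).2 h1)) hd
  apply hC
  refine h2.trans ?_
  have h3 : N.index = N.relIndex (centralizer ({s} : Set H)) := by
    have hn := h.normal
    rw [← relIndex_top_right, ← h.sup, sup_comm, relIndex_sup_right]
  rw [h3]
  exact relIndex_dvd_card _ _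

end Lift

end Core

section Main

variable {H : Type u} [Group H] [Finite H]

/-- **the main argument** (`H` = the centralizer of a 3-element) -/
theorem abs_main {s z : H} (h : Sit s z 3) (h27 : 27 ∣ Nat.card ↥(centralizer ({s} : Set H)))
    (h11 : ¬ 3 ^ 11 ∣ Nat.card H) {g k : H} (hg : g ^ 4 = s) (hk : k * g * k⁻¹ = g⁻¹) {x v : H}
    (hx : orderOf x = 5) (hxs : x * s = s * x) (hvx : v * x = x * v) (hv : s * v * s⁻¹ = v⁻¹) (hv3 : v ^ 3 = 1) :
    v = 1 := by
  by_contra hv1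
  have h5F : Fact (Nat.Prime 5) := ⟨Nat.prime_five⟩
  have h2F : Fact (Nat.Prime 2) := ⟨Nat.prime_two⟩
  have h3odd : Odd 3 := by decide
  obtain ⟨N, hN⟩ := h.core
  have hZ := h.normalZ
  obtain ⟨hinv, hcomm⟩ := hN.quot
  have hvN : v ∈ N := hN.mem_of_inv hv h3odd hv3
  have hvZ : v ∉ zpowers z := hN.not_mem_of_inv hv h3odd hv3 hv1
  set π := QuotientGroup.mk' (zpowers z) with hπ
  have hn := hN.normal
  have hNb : (N.map π).Normal := hn.map _ (QuotientGroup.mk'_surjective _)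
  have hAn : (tors (N.map π) hcomm 3).Normal := tors_normal hNb
  set A := tors (N.map π) hcomm 3 with hAdef
  have hvA : π v ∈ A := ⟨⟨v, hvN, rfl⟩, by rw [← map_pow, hv3, map_one]⟩
  have hvne : π v ≠ 1 := fun h1 => hvZ ((QuotientGroup.eq_one_iff v).1 h1)
  obtain ⟨n, hn4⟩ := card_eq_pow A (fun a ha => ha.2) (fun a ha b hb => hcomm a ha.1 b hb.1) (s := π s) (g := π g)
    (k := π k) (fun a ha => hinv a ha.1) (by rw [← map_pow, hg]) (by rw [← map_mul, ← map_inv, ← map_mul, hk, map_inv])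
  set C := centralizer ({s} : Set H) with hC
  -- the image of `C`
  have hinf : A ⊓ C.map π = ⊥ := by
    rw [eq_bot_iff]
    rintro a ⟨ha, c, hc, rfl⟩
    rw [mem_bot]
    have h1 := hinv _ ha.1
    have h2 : c * s = s * c := mem_centralizer_singleton_iff.1 hc
    have h3 : π s * π c * (π s)⁻¹ = π c := by
      rw [← map_mul, ← h2, map_mul, mul_inv_cancel_right]
    rw [h3] at h1
    refine eq_one_of_sq_odd h3odd ?_ ha.2
    nth_rewrite 2 [h1]
    exact mul_inv_cancel _
  have hd1 := card_mul_dvd_of_inf A (C.map π) hinf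
  have hQ : Nat.card H = Nat.card (H ⧸ zpowers z) * 3 := by
    rw [card_eq_card_quotient_mul_card_subgroup (zpowers z), Nat.card_zpowers, h.oz]
  have hCb : Nat.card ↥C ∣ Nat.card ↥(C.map π) * 3 := by
    set φ : ↥C →* H ⧸ zpowers z := π.comp C.subtype with hφ
    have h1 : Nat.card ↥φ.ker * Nat.card ↥φ.range = Nat.card ↥C := by
      rw [← index_ker, card_mul_index]
    have h2 : φ.range = C.map π := by rw [hφ, MonoidHom.range_comp, range_subtype]
    rw [← h1, ← h2, mul_comm]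
    refine Nat.mul_dvd_mul_left _ ?_
    have h3 : Nat.card ↥(zpowers z) = 3 := by rw [Nat.card_zpowers, h.oz]
    rw [← h3]
    let j : ↥φ.ker →* ↥(zpowers z) :=
      { toFun := fun a => ⟨((a : ↥C) : H), (QuotientGroup.eq_one_iff _).1 (MonoidHom.mem_ker.1 a.2)⟩
        map_one' := rfl
        map_mul' := fun a b => rfl }
    refine card_dvd_of_injective j fun a b hab => ?_
    have h5 : ((a : ↥C) : H) = (b : ↥C) := congrArg (fun y : ↥(zpowers z) => (y : H)) hab
    exact Subtype.ext (Subtype.ext h5)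
  have h9 : 9 ∣ Nat.card ↥(C.map π) := by
    have h1 : 9 * 3 ∣ Nat.card ↥(C.map π) * 3 := by
      norm_num
      exact h27.trans hCb
    exact Nat.dvd_of_mul_dvd_mul_right (by norm_num) h1
  have hn1 : n = 1 := by
    have hn0 : n ≠ 0 := by
      rintro rfl
      rw [pow_zero, card_eq_one] at hn4
      rw [hn4, mem_bot] at hvA
      exact hvne hvA
    by_contra hne
    apply h11
    have h1 : 81 ^ 2 ∣ Nat.card ↥A := by
      rw [hn4]
      exact pow_dvd_pow 81 (by omega)
    have h2 : 81 ^ 2 * 9 ∣ Nat.card (H ⧸ zpowers z) := (Nat.mul_dvd_mul h1 h9).trans hd1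
    rw [hQ]
    have h3 : (3 : ℕ) ^ 11 = 81 ^ 2 * 9 * 3 := by norm_num
    rw [h3]
    exact Nat.mul_dvd_mul_right h2 3
  rw [hn1, pow_one] at hn4
  -- the element `x`
  have hx5 : (π x) ^ 5 = 1 := by rw [← map_pow, ← hx, pow_orderOf_eq_one, map_one]
  have hfix := card_fix (p := 5) A (x := π x) hx5
  have hAx : A ≤ centralizer ({π x} : Set (H ⧸ zpowers z)) := by
    have hd := card_dvd_of_le (inf_le_left : A ⊓ centralizer ({π x} : Set (H ⧸ zpowers z)) ≤ A)
    rw [hn4, show (81 : ℕ) = 3 ^ 4 by norm_num] at hd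
    obtain ⟨f, hf, hf'⟩ := (Nat.dvd_prime_pow Nat.prime_three).1 hd
    rw [hn4, hf'] at hfix
    have hf4 : f = 4 := by
      have hf0 : f ≠ 0 := by
        rintro rfl
        rw [pow_zero, card_eq_one] at hf'
        have h1 : π v ∈ A ⊓ centralizer ({π x} : Set (H ⧸ zpowers z)) :=
          ⟨hvA, mem_centralizer_singleton_iff.2 (by rw [← map_mul, hvx, map_mul])⟩
        rw [hf', mem_bot] at h1
        exact hvne h1
      interval_cases f
      · exact absurd rfl hf0
      · exact absurd hfix (by decide)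
      · exact absurd hfix (by decide)
      · exact absurd hfix (by decide)
      · rfl
    have h1 : A ⊓ centralizer ({π x} : Set (H ⧸ zpowers z)) = A :=
      eq_of_le_of_card_ge inf_le_left (by rw [hf', hn4, hf4]; norm_num)
    exact inf_eq_left.1 h1
  -- the kernel of the action of `C` on `A`
  set K : Subgroup ↥C := (centralizer (A : Set (H ⧸ zpowers z))).comap (π.comp C.subtype) with hK
  have hKn : K.Normal := by
    have : (centralizer (A : Set (H ⧸ zpowers z))).Normal := inferInstance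
    exact this.comap _
  have hxC : x ∈ C := mem_centralizer_singleton_iff.2 hxs
  have hxK : (⟨x, hxC⟩ : ↥C) ∈ K := by
    rw [hK, mem_comap, mem_centralizer_iff]
    intro a ha
    exact mem_centralizer_singleton_iff.1 (hAx ha)
  have hodd : Odd (Nat.card ↥K) := by
    rw [← Nat.not_even_iff_odd]
    intro he
    obtain ⟨u, hu'⟩ := exists_prime_orderOf_dvd_card' 2 (even_iff_two_dvd.1 he)
    have h1 : (((u : ↥K) : ↥C) : H) = s :=
      h.uniq _ (by rw [Subgroup.orderOf_coe, Subgroup.orderOf_coe, hu'])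
        (mem_centralizer_singleton_iff.1 ((u : ↥K) : ↥C).2)
    have h2 : π (((u : ↥K) : ↥C) : H) ∈ centralizer (A : Set (H ⧸ zpowers z)) := (u : ↥K).2
    rw [h1, mem_centralizer_iff] at h2
    have h3 := h2 (π v) hvA
    have h5 := hinv _ hvA.1
    rw [← h3, mul_inv_cancel_right] at h5
    apply hvne
    refine eq_one_of_sq_odd h3odd ?_ hvA.2
    nth_rewrite 2 [h5]
    exact mul_inv_cancel _
  have h3 := h.odd K hKn hodd
  have h5 : 5 ∣ Nat.card ↥K := by
    have h6 := orderOf_dvd_natCard (⟨⟨x, hxC⟩, hxK⟩ : ↥K)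
    rw [Subgroup.orderOf_mk, Subgroup.orderOf_mk, hx] at h6
    exact h6
  have h7 := h5.trans h3
  revert h7
  norm_num

end Main

end Cfsg.Agent.ThFive
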