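import Cfsg.Agent.CpAutTh.Local

/-!
# Th, `p = 5` (helper96): the words of a quaternion group of order 16 commuting with `X3`
-/

set_option autoImplicit false
set_option maxRecDepth 100000

namespace Cfsg.Agent.ThFive.Words

open Subgroup Cfsg
open Cfsg.Agent.Th.Base Cfsg.Agent.Th.Word Cfsg.Agent.Th.RelWords Cfsg.Agent.Th.PermTab
  Cfsg.Agent.Th.KOracle Cfsg.Agent.Th.KPerm Cfsg.Agent.Th.NineAct Cfsg.Agent.Th.CStruct
  Cfsg.Agent.Th.COracleDef Cfsg.Agent.Th.COracleSound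
open Cfsg.Agent.KFacts.Th.Mask Cfsg.Agent.KFacts.Th.Struct
open Cfsg.Agent.CpAutTh.Data Cfsg.Agent.CpAutTh.Local

universe u

def G8 : List ℕ := [6, 10, 4, 6, 10, 6, 8, 4, 3, 4, 5, 4, 3, 4, 5, 7, 7, 5, 4, 3, 4, 5, 6, 6, 7, 7, 7, 5, 4, 3, 4, 5, 6,
  6, 6, 7, 5, 4, 3, 4, 5, 6]
def H8 : List ℕ := [4, 7, 8, 10, 4, 7, 3, 6, 5, 4, 3, 4, 5, 7]

theorem cG8 : ∀ x ∈ G8, isC x = true := by decide +kernel
theorem cH8 : ∀ x ∈ H8, isC x = true := by decide +kernel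
theorem g8x : corc (G8 ++ (X3 ++ (iw G8 ++ iw X3))) = true := by decide +kernel
theorem h8x : corc (H8 ++ (X3 ++ (iw H8 ++ iw X3))) = true := by decide +kernel
theorem g8a : corc (G8 ++ (G8 ++ (G8 ++ (G8 ++ [1])))) = true := by decide +kernel
theorem h8g : corc (iw H8 ++ (G8 ++ (H8 ++ G8))) = true := by decide +kernel

section

variable {G : Type u} [Group G] {γ : ℕ → G} (h : Ctx γ)
include h

theorem comm_of {Y X : List ℕ} (hw : corc (Y ++ (X ++ (iw Y ++ iw X))) = true) : ev γ Y * ev γ X = ev γ X * ev γ Y := by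
  have h1 := ev_one h hw
  rw [ev_append, ev_append, ev_append, ev_iw h.inv, ev_iw h.inv] at h1
  calc ev γ Y * ev γ X = ev γ Y * (ev γ X * ((ev γ Y)⁻¹ * (ev γ X)⁻¹)) * (ev γ X * ev γ Y) := by group
    _ = ev γ X * ev γ Y := by rw [h1, one_mul]

theorem G8_comm : ev γ G8 * ev γ X3 = ev γ X3 * ev γ G8 := comm_of h g8x

theorem H8_comm : ev γ H8 * ev γ X3 = ev γ X3 * ev γ H8 := comm_of h h8x

theorem G8_four : ev γ G8 ^ 4 = γ 1 := by
  have h1 := ev_one h g8a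
  rw [ev_append, ev_append, ev_append, ev_append, ev_singleton] at h1
  have h2 : ev γ G8 ^ 4 * γ 1 = 1 := by
    rw [← h1]
    simp only [pow_succ, pow_zero, one_mul, mul_assoc]
  calc ev γ G8 ^ 4 = ev γ G8 ^ 4 * γ 1 * γ 1 := by rw [mul_assoc, h.aa, mul_one]
    _ = γ 1 := by rw [h2, one_mul]

theorem H8_inv : (ev γ H8)⁻¹ * ev γ G8 * (ev γ H8)⁻¹⁻¹ = (ev γ G8)⁻¹ := by
  have h1 := ev_one h h8g
  rw [ev_append, ev_append, ev_append, ev_iw h.inv] at h1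
  rw [inv_inv]
  refine eq_inv_of_mul_eq_one_left ?_
  rw [← h1]
  simp only [mul_assoc]

end

end Cfsg.Agent.ThFive.Words
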