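import Cfsg.Agent.ThFive.Abs
import Cfsg.Agent.ThFive.Words
import Cfsg.Agent.BpSpor.ThThree

/-!
# Th, `p = 5` (helper96): the situation `Sit` for `C(X3)` and `C(X5)`
-/

set_option autoImplicit false
set_option maxRecDepth 100000
set_option linter.unusedSectionVars false

namespace Cfsg.Agent.ThFive.Five

open Subgroup Cfsg
open Cfsg.Agent.Th.Base Cfsg.Agent.Th.Word Cfsg.Agent.Th.RelWords Cfsg.Agent.Th.PermTab
  Cfsg.Agent.Th.KOracle Cfsg.Agent.Th.KPerm Cfsg.Agent.Th.NineAct Cfsg.Agent.Th.CStruct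
  Cfsg.Agent.Th.COracleDef Cfsg.Agent.Th.COracleSound
open Cfsg.Agent.KFacts.Th.Mask Cfsg.Agent.KFacts.Th.Struct
open Cfsg.Agent.CpAutTh.Data Cfsg.Agent.CpAutTh.Alt Cfsg.Agent.CpAutTh.RankOne Cfsg.Agent.CpAutTh.Local
  Cfsg.Agent.CpAutTh.Mid Cfsg.Agent.CpAutTh.ThreePerm Cfsg.Agent.CpAutTh.ThreeE
open Cfsg.Agent.BpSpor.ThCent Cfsg.Agent.BpSpor.ThThree

universe u

/-! ### The fixed points of the 5-cycle -/

def S4 : Finset (Fin 9) := Finset.univ.filter fun i => pm9 X5 i = i

theorem card_S4 : S4.card = 4 := by decide +kernel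

theorem nat_card_S4 : Nat.card ↥S4 = 4 := by rw [Nat.card_eq_fintype_card, Fintype.card_coe, card_S4]

theorem card4 : Nat.card ↥(alternatingGroup ↥S4) = 12 := by
  have : Nontrivial ↥S4 := by
    rw [← Fintype.one_lt_card_iff_nontrivial, Fintype.card_coe, card_S4]
    norm_num
  rw [nat_card_alternatingGroup, nat_card_S4]
  decide

/-- in `A4`: a nontrivial element `m` with `m³ = 1` has a commutator of order 2 -/
theorem prod_two : ∀ m : alternatingGroup (Fin 4), m ≠ 1 → m ^ 3 = 1 →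
    ∃ g : alternatingGroup (Fin 4), (g * m * g⁻¹ * m⁻¹) ≠ 1 ∧ (g * m * g⁻¹ * m⁻¹) * (g * m * g⁻¹ * m⁻¹) = 1 := by
  decide +kernel

/-- a normal subgroup of odd order of `A4` is trivial -/
theorem normal_four (K : Subgroup (alternatingGroup (Fin 4))) (hK : K.Normal) (hodd : Odd (Nat.card ↥K)) : K = ⊥ := by
  have h3F : Fact (Nat.Prime 3) := ⟨Nat.prime_three⟩
  have hc : Nat.card (alternatingGroup (Fin 4)) = 12 := by
    rw [nat_card_alternatingGroup, Nat.card_eq_fintype_card]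
    decide
  have hd : Nat.card ↥K ∣ 3 := by
    have h1 : Nat.card ↥K ∣ 4 * 3 := by
      have := card_subgroup_dvd_card K
      rwa [hc] at this
    have h2 : Nat.Coprime (Nat.card ↥K) (2 ^ 2) := (Nat.coprime_two_right.2 hodd).pow_right 2
    exact (show Nat.Coprime (Nat.card ↥K) 4 from h2).dvd_of_dvd_mul_left h1
  by_contra hne
  obtain ⟨m, hm⟩ := (Subgroup.ne_bot_iff_exists_ne_one).1 hne
  have hm3 : (m : alternatingGroup (Fin 4)) ^ 3 = 1 := by
    have h1 : m ^ 3 = 1 := orderOf_dvd_iff_pow_eq_one.1 ((orderOf_dvd_natCard m).trans hd)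
    exact congrArg Subtype.val h1
  obtain ⟨g, h1, h2⟩ := prod_two m (fun h => hm (Subtype.ext h)) hm3
  apply h1
  have h3 : g * m * g⁻¹ * (m : alternatingGroup (Fin 4))⁻¹ ∈ K := mul_mem (hK.conj_mem _ m.2 g) (inv_mem m.2)
  have h4 := pow_card_eq_one' (x := (⟨_, h3⟩ : ↥K))
  refine eq_one_of_sq_odd hodd h2 (congrArg Subtype.val h4)

theorem normal_four' (K : Subgroup (alternatingGroup ↥S4)) (hK : K.Normal) (hodd : Odd (Nat.card ↥K)) : K = ⊥ := by
  have e0 : ↥S4 ≃ Fin 4 := (Fintype.equivFinOfCardEq (by rw [Fintype.card_coe, card_S4]))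
  let e : alternatingGroup ↥S4 ≃* alternatingGroup (Fin 4) := e0.altCongrHom
  have h1 : (K.map e.toMonoidHom).Normal := hK.map _ e.surjective
  have h2 : Nat.card ↥(K.map e.toMonoidHom) = Nat.card ↥K := card_map_of_injective e.injective
  have h3 := normal_four _ h1 (by rw [h2]; exact hodd)
  rw [map_eq_bot_iff_of_injective _ e.injective] at h3
  exact h3

theorem ofS_comm (g : ↥(alternatingGroup ↥S4)) :
    ((alternatingGroup.ofSubtype S4 g : alternatingGroup (Fin 9)) : Equiv.Perm (Fin 9)) * pm9 X5 =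
      pm9 X5 * ((alternatingGroup.ofSubtype S4 g : alternatingGroup (Fin 9)) : Equiv.Perm (Fin 9)) := by
  rw [alternatingGroup.coe_ofSubtype]
  ext i
  rw [Equiv.Perm.mul_apply, Equiv.Perm.mul_apply]
  congr 1
  have hS : ∀ i, i ∈ S4 ↔ pm9 X5 i = i := fun i => by simp [S4]
  by_cases hi : i ∈ S4
  · rw [(hS i).1 hi]
    symm
    rw [← hS]
    rw [Equiv.Perm.ofSubtype_apply_of_mem _ hi]
    exact (g.1 ⟨i, hi⟩).2
  · have h1 : pm9 X5 i ∉ S4 := by
      rw [hS] at hi ⊢
      intro h2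
      exact hi ((pm9 X5).injective h2)
    rw [Equiv.Perm.ofSubtype_apply_of_not_mem _ hi, Equiv.Perm.ofSubtype_apply_of_not_mem _ h1]

section

variable {G : Type u} [Group G] {γ : ℕ → G} (h : Ctx γ)
  {f : sub γ isC →* alternatingGroup (Fin 9)} (F : Epi γ f)
include h F

theorem range_card5 : Nat.card (psi h c5 f).range = 60 := by
  have h1 : (psi h c5 f).range = centralizer ({f ⟨ev γ X5, ev_mem_sub c5⟩} : Set (alternatingGroup (Fin 9))) :=
    le_antisymm (range_le h F c5) (le_range h F c5 Nat.prime_five (by norm_num) (o5 h F))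
  rw [h1]
  have h2 := card_cent_alt (f ⟨ev γ X5, ev_mem_sub c5⟩) c01 s01 (by rw [F.word X5 c5]; exact m5)
  rw [F.word X5 c5, card5] at h2
  omega

/-- the copy of `A4` -/
def jj5 (h : Ctx γ) (F : Epi γ f) : ↥(alternatingGroup ↥S4) →* ↥(psi h c5 f).range :=
  (alternatingGroup.ofSubtype S4).codRestrict (psi h c5 f).range fun g => by
    refine le_range h F c5 Nat.prime_five (by norm_num) (o5 h F) ?_
    rw [mem_centralizer_singleton_iff]
    apply Subtype.ext
    rw [Subgroup.coe_mul, Subgroup.coe_mul, F.word X5 c5]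
    exact ofS_comm g

theorem jj5_inj : Function.Injective (jj5 h F) := by
  intro a b hab
  apply alternatingGroup.ofSubtype_injective
  exact congrArg Subtype.val hab

/-- `|K|` divides `|K image|` for `K` odd -/
theorem card_dvd_image {X : List ℕ} (hX : ∀ x ∈ X, isC x = true) (K : Subgroup ↥(centralizer ({sx h hX} : Set _)))
    (hodd : Odd (Nat.card ↥K)) : Nat.card ↥K ∣ Nat.card ↥(K.map (psi h hX f).rangeRestrict) := by
  have := h.fin
  have h2F : Fact (Nat.Prime 2) := ⟨Nat.prime_two⟩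
  let φ : ↥K →* ↥(K.map (psi h hX f).rangeRestrict) := (psi h hX f).rangeRestrict.subgroupMap K
  refine card_dvd_of_injective φ ?_
  rw [injective_iff_map_eq_one]
  intro a ha
  have h1 : psi h hX f (a : ↥(centralizer ({sx h hX} : Set _))) = 1 :=
    congrArg (fun z : ↥(K.map (psi h hX f).rangeRestrict) => ((z : ↥(psi h hX f).range) : alternatingGroup (Fin 9))) ha
  obtain ⟨k, hk⟩ := ker_two_psi h F hX ⟨a, MonoidHom.mem_ker.2 h1⟩
  have hk' : (a : ↥(centralizer ({sx h hX} : Set _))) ^ 2 ^ k = 1 := congrArg Subtype.val hk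
  have hk'' : a ^ 2 ^ k = 1 := Subtype.ext hk'
  have h3 : a ^ Nat.card ↥K = 1 := pow_card_eq_one'
  have h4 : Nat.Coprime (2 ^ k) (Nat.card ↥K) := Nat.Coprime.pow_left _ (Nat.coprime_two_left.2 hodd)
  have h5 : a ^ Nat.gcd (2 ^ k) (Nat.card ↥K) = 1 := pow_gcd_eq_one.2 ⟨hk'', h3⟩
  rwa [h4, pow_one] at h5

theorem odd_five (K : Subgroup ↥(centralizer ({sx h c5} : Set _))) (hK : K.Normal) (hodd : Odd (Nat.card ↥K)) :
    Nat.card ↥K ∣ 5 := by
  have := h.fin
  refine (card_dvd_image h F c5 K hodd).trans ?_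
  set K' := K.map (psi h c5 f).rangeRestrict with hK'
  have hodd' : Odd (Nat.card ↥K') := Odd.of_dvd_nat hodd (Subgroup.card_map_dvd _ _)
  have hn : K'.Normal := hK.map _ (psi h c5 f).rangeRestrict_surjective
  have hn2 : (K'.comap (jj5 h F)).Normal := hn.comap _
  have h2 : K'.comap (jj5 h F) = ⊥ := by
    refine normal_four' _ hn2 (Odd.of_dvd_nat hodd' ?_)
    let φ : ↥(K'.comap (jj5 h F)) →* ↥K' := (jj5 h F).subgroupComap K'
    refine card_dvd_of_injective φ ?_
    intro a b hab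
    apply Subtype.ext
    apply jj5_inj h F
    exact congrArg Subtype.val hab
  have h1 : K' ⊓ (jj5 h F).range = ⊥ := by
    rw [eq_bot_iff]
    rintro y ⟨hy, a, rfl⟩
    have h3 : a ∈ K'.comap (jj5 h F) := hy
    rw [h2, mem_bot] at h3
    rw [h3, map_one]
    exact one_mem _
  have h3 := ThFive.card_mul_dvd_of_inf K' (jj5 h F).range h1
  have h4 : Nat.card ↥(jj5 h F).range = 12 := by
    rw [← card4]
    exact (Nat.card_congr (MonoidHom.ofInjective (jj5_inj h F)).toEquiv).symm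
  rw [h4, range_card5 h F, show (60 : ℕ) = 5 * 12 by norm_num] at h3
  exact Nat.dvd_of_mul_dvd_mul_right (by norm_num) h3

theorem odd_three (K : Subgroup ↥(centralizer ({sx h c3} : Set _))) (hK : K.Normal) (hodd : Odd (Nat.card ↥K)) :
    Nat.card ↥K ∣ 3 := by
  refine (card_dvd_image h F c3 K hodd).trans (normal_cases h F K hK fun hd => ?_)
  have h2 : 2 ∣ Nat.card ↥K := dvd_trans (by norm_num) hd
  exact (Nat.not_even_iff_odd.2 hodd) (even_iff_two_dvd.2 h2)

theorem oxx {X : List ℕ} (hX : ∀ x ∈ X, isC x = true) {p : ℕ}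
    (ho : orderOf (⟨ev γ X, ev_mem_sub hX⟩ : sub γ isC) = p) : orderOf (xx γ X) = p := by
  rw [← Subgroup.orderOf_coe] at ho ⊢
  exact ho

theorem sit3 : Sit (sx h c3) (xx γ X3) 3 where
  prime := Nat.prime_three
  ne_two := by norm_num
  os := order_sx h c3
  uniq := by
    rintro ⟨u, hu⟩ h1 h2
    apply Subtype.ext
    rw [Subgroup.orderOf_mk] at h1
    exact inv_three h F h1 (congrArg Subtype.val h2) (mem_centralizer_singleton_iff.1 hu)
  cen := xx_center
  oz := oxx h F c3 (o3 h F)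
  odd := odd_three h F

theorem sit5 : Sit (sx h c5) (xx γ X5) 5 where
  prime := Nat.prime_five
  ne_two := by norm_num
  os := order_sx h c5
  uniq := by
    rintro ⟨u, hu⟩ h1 h2
    apply Subtype.ext
    rw [Subgroup.orderOf_mk] at h1
    exact inv_five h F h1 (congrArg Subtype.val h2) (mem_centralizer_singleton_iff.1 hu)
  cen := xx_center
  oz := oxx h F c5 (o5 h F)
  odd := odd_five h F

end

end Cfsg.Agent.ThFive.Five
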