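import Cfsg.Agent.ThFive.Five

/-!
# Th, `p = 5` (helper96): the main statements for a group with the data `Ctx γ`
-/

set_option autoImplicit false
set_option maxRecDepth 100000
set_option linter.unusedSectionVars false

namespace Cfsg.Agent.ThFive.Gen

open Subgroup Cfsg
open Cfsg.Agent.Th.Base Cfsg.Agent.Th.Word Cfsg.Agent.Th.RelWords Cfsg.Agent.Th.PermTab
  Cfsg.Agent.Th.KOracle Cfsg.Agent.Th.KPerm Cfsg.Agent.Th.NineAct Cfsg.Agent.Th.CStruct
  Cfsg.Agent.Th.COracleDef Cfsg.Agent.Th.COracleSound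
open Cfsg.Agent.KFacts.Th.Mask Cfsg.Agent.KFacts.Th.Struct
open Cfsg.Agent.CpAutTh.Data Cfsg.Agent.CpAutTh.Alt Cfsg.Agent.CpAutTh.RankOne Cfsg.Agent.CpAutTh.Local
  Cfsg.Agent.CpAutTh.Mid Cfsg.Agent.CpAutTh.ThreePerm Cfsg.Agent.CpAutTh.ThreeE
open Cfsg.Agent.BpSpor.ThCent Cfsg.Agent.BpSpor.ThThree
open Cfsg.Agent.ThFive.Words Cfsg.Agent.ThFive.Five

universe u

section

variable {G : Type u} [Group G] {γ : ℕ → G} (h : Ctx γ)
  {f : sub γ isC →* alternatingGroup (Fin 9)} (F : Epi γ f)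
include h F

/-- `w` inverted by `a`, `w` and `x` commute with `X3` -/
theorem base3 {x w : G} (hx : orderOf x = 5) (hxa : x * γ 1 = γ 1 * x) (hxt : x * ev γ X3 = ev γ X3 * x)
    (hw3 : w ^ 3 = 1) (hwt : w * ev γ X3 = ev γ X3 * w) (hwx : w * x = x * w) (haw : γ 1 * w * (γ 1)⁻¹ = w⁻¹) :
    w = 1 := by
  have hfin := h.fin
  have hG8 : ev γ G8 ∈ centralizer ({ev γ X3} : Set G) := mem_centralizer_singleton_iff.2 (G8_comm h)
  have hH8 : ev γ H8 ∈ centralizer ({ev γ X3} : Set G) := mem_centralizer_singleton_iff.2 (H8_comm h)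
  have h1 := abs_main (sit3 h F) ?_ ?_ (g := ⟨ev γ G8, hG8⟩) (k := (⟨ev γ H8, hH8⟩ : ↥(centralizer ({ev γ X3} : Set G)))⁻¹)
    ?_ ?_ (x := ⟨x, mem_centralizer_singleton_iff.2 hxt⟩) (v := ⟨w, mem_centralizer_singleton_iff.2 hwt⟩) ?_ ?_ ?_ ?_ ?_
  · exact congrArg Subtype.val h1
  · rw [← card_mul_index (psi h c3 f).ker, index_ker, range_card h F]
    exact Dvd.dvd.mul_left (by norm_num) _
  · intro hd
    have h2 := hd.trans (card_subgroup_dvd_card (centralizer ({ev γ X3} : Set G)))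
    rw [h.card] at h2
    revert h2
    norm_num
  · exact Subtype.ext (G8_four h)
  · exact Subtype.ext (H8_inv h)
  · rw [Subgroup.orderOf_mk, hx]
  · exact Subtype.ext hxa
  · exact Subtype.ext hwx
  · exact Subtype.ext haw
  · exact Subtype.ext hw3

variable (hone : ∀ u : G, orderOf u = 2 → ∃ g : G, g * u * g⁻¹ = γ 1)
include hone

/-- the same for every element `t` of order 3 -/
theorem any3 {x w t s : G} (hs : orderOf s = 2) (ht : orderOf t = 3) (hst : s * t = t * s) (hx : orderOf x = 5)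
    (hxs : x * s = s * x) (hxt : x * t = t * x)
    (hw3 : w ^ 3 = 1) (hwt : w * t = t * w) (hwx : w * x = x * w) (hsw : s * w * s⁻¹ = w⁻¹) :
    w = 1 := by
  have hfin := h.fin
  obtain ⟨g, h1, h2⟩ := exists_pair h hone ht hs hst
      (P := fun z => z = ev γ X3 ∨ z = ev γ X33 ∨ z = ev γ X333) (fun y hy => by
        obtain ⟨c, hc⟩ := exists_rep_three h F hy
        refine ⟨c, ?_⟩
        rcases hc with hc | hc | hc
        · exact Or.inl (congrArg Subtype.val hc)
        · exact Or.inr (Or.inl (congrArg Subtype.val hc))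
        · exact Or.inr (Or.inr (congrArg Subtype.val hc)))
  have hcm : ∀ a b : G, a * b = b * a → (g * a * g⁻¹) * (g * b * g⁻¹) = (g * b * g⁻¹) * (g * a * g⁻¹) := by
    intro a b hab
    calc (g * a * g⁻¹) * (g * b * g⁻¹) = g * (a * b) * g⁻¹ := by group
      _ = (g * b * g⁻¹) * (g * a * g⁻¹) := by rw [hab]; group
  have hx' : orderOf (g * x * g⁻¹) = 5 := by
    rw [← hx]
    exact MulEquiv.orderOf_eq (MulAut.conj g) x
  have hxa : (g * x * g⁻¹) * γ 1 = γ 1 * (g * x * g⁻¹) := by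
    have := hcm x s hxs
    rwa [h1] at this
  have hno : ∀ {X : List ℕ} (hX : ∀ x ∈ X, isC x = true) {m : ℕ}
      (_ : Nat.card ↥(centralizer ({pm9 X} : Set (Equiv.Perm (Fin 9)))) = m) (_ : Nat.Coprime 5 m),
      g * t * g⁻¹ = ev γ X → False := by
    intro X hX m hm hcop hgt
    obtain ⟨n, hn⟩ := Cfsg.Agent.BpSpor.ThCent.card_dvd h F hX hm
    have h3 : (g * x * g⁻¹) * ev γ X = ev γ X * (g * x * g⁻¹) := by
      have := hcm x t hxt
      rwa [hgt] at this
    have h4 : (⟨g * x * g⁻¹, mem_centralizer_singleton_iff.2 h3⟩ : ↥(centralizer ({ev γ X} : Set G))) ∈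
        centralizer ({sx h hX} : Set _) := mem_centralizer_singleton_iff.2 (Subtype.ext hxa)
    have h5 := orderOf_dvd_natCard (⟨_, h4⟩ : ↥(centralizer ({sx h hX} : Set _)))
    rw [Subgroup.orderOf_mk, Subgroup.orderOf_mk, hx'] at h5
    have h6 := h5.trans hn
    have h7 : Nat.Coprime 5 (2 ^ n * m) := Nat.Coprime.mul_right (Nat.Coprime.pow_right n (by norm_num)) hcop
    have h8 := Nat.Coprime.eq_one_of_dvd h7 h6
    norm_num at h8
  rcases h2 with h2 | h2 | h2
  · have h3 := base3 h F hx' hxa (by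
      have := hcm x t hxt
      rwa [h2] at this) (w := g * w * g⁻¹) (by rw [conj_pow, hw3, mul_one, mul_inv_cancel]) (by
      have := hcm w t hwt
      rwa [h2] at this) (hcm w x hwx) (by
      rw [← h1]
      calc g * s * g⁻¹ * (g * w * g⁻¹) * (g * s * g⁻¹)⁻¹ = g * (s * w * s⁻¹) * g⁻¹ := by group
        _ = (g * w * g⁻¹)⁻¹ := by rw [hsw]; group)
    exact conj_eq_one_iff.1 h3
  · exact (hno c33 card33 (by norm_num) h2).elim
  · exact (hno c333 card333 (by norm_num) h2).elim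

/-- **the 5-element `X5`** -/
theorem base5 {v : G} {n : ℕ} (hvx : v * ev γ X5 = ev γ X5 * v) (hav : γ 1 * v * (γ 1)⁻¹ = v⁻¹)
    (hv : v ^ 3 ^ n = 1) : v = 1 := by
  by_contra hv1
  have hfin := h.fin
  have h3F : Fact (Nat.Prime 3) := ⟨Nat.prime_three⟩
  obtain ⟨N, hN⟩ := (sit5 h F).core
  have h3 : 3 ∣ Nat.card ↥(centralizer ({sx h c5} : Set _)) := by
    rw [← card_mul_index (psi h c5 f).ker, index_ker, range_card5 h F]
    exact Dvd.dvd.mul_left (by norm_num) _
  obtain ⟨t, ht⟩ := exists_prime_orderOf_dvd_card' 3 h3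
  have ht3 : ((t : ↥(centralizer ({sx h c5} : Set _))) : ↥(centralizer ({ev γ X5} : Set G))) ^ 3 = 1 := by
    have h4 : t ^ 3 = 1 := by rw [← ht, pow_orderOf_eq_one]
    exact congrArg Subtype.val h4
  have hta := mem_centralizer_singleton_iff.1 t.2
  obtain ⟨w, hw1, hw3, hwt, hsw⟩ := hN.exists_fixed Nat.prime_three (by norm_num) (k := 10) (by norm_num) (by norm_num)
    ht3 (v := ⟨v, mem_centralizer_singleton_iff.2 hvx⟩) (n := n) (Subtype.ext hv) (fun h4 => hv1 (congrArg Subtype.val h4))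
    (Subtype.ext hav)
  apply hw1
  apply Subtype.ext
  have hs : orderOf (γ 1) = 2 := by
    have := order_sx h c5
    rwa [← Subgroup.orderOf_coe] at this
  have hx5 : orderOf (ev γ X5) = 5 := by
    have := o5 h F
    rwa [Subgroup.orderOf_mk] at this
  refine any3 h F hone (s := γ 1) (x := ev γ X5)
    (t := ((t : ↥(centralizer ({sx h c5} : Set _))) : ↥(centralizer ({ev γ X5} : Set G)))) hs ?_ ?_ hx5 ?_ ?_ ?_ ?_ ?_ ?_
  · rw [Subgroup.orderOf_coe, Subgroup.orderOf_coe, ht]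
  · exact (congrArg Subtype.val hta).symm
  · exact h.mem_C.1 (ev_mem_sub c5)
  · exact (mem_centralizer_singleton_iff.1 (t : ↥(centralizer ({sx h c5} : Set _))).1.2).symm
  · exact congrArg Subtype.val hw3
  · exact congrArg Subtype.val hwt
  · exact mem_centralizer_singleton_iff.1 w.2
  · exact congrArg Subtype.val hsw

/-- **(A)** an inverted 3-element which commutes with `x` is trivial -/
theorem inv_eq_one {x s v : G} {n : ℕ} (hx : orderOf x = 5) (hs : orderOf s = 2) (hxs : x * s = s * x)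
    (hvx : v * x = x * v) (hsv : s * v * s⁻¹ = v⁻¹) (hv : v ^ 3 ^ n = 1) : v = 1 := by
  obtain ⟨g, h1, h2⟩ := exists_pair h hone hx hs hxs.symm (P := fun z => z = ev γ X5) (fun y hy => by
      obtain ⟨c, hc⟩ := exists_rep_five h F hy
      exact ⟨c, congrArg Subtype.val hc⟩)
  have h3 := base5 h F hone (v := g * v * g⁻¹) (n := n) (by
    rw [← h2]
    calc (g * v * g⁻¹) * (g * x * g⁻¹) = g * (v * x) * g⁻¹ := by group
      _ = (g * x * g⁻¹) * (g * v * g⁻¹) := by rw [hvx]; group) (by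
    rw [← h1]
    calc g * s * g⁻¹ * (g * v * g⁻¹) * (g * s * g⁻¹)⁻¹ = g * (s * v * s⁻¹) * g⁻¹ := by group
        _ = (g * v * g⁻¹)⁻¹ := by rw [hsv]; group) (by rw [conj_pow, hv, mul_one, mul_inv_cancel])
  exact conj_eq_one_iff.1 h3

/-- **(B)** -/
theorem not_nine {x s : G} (hx : orderOf x = 5) (hs : orderOf s = 2) (hxs : x * s = s * x) :
    ¬ 9 ∣ Nat.card ↥(centralizer ({x} : Set G)) := by
  have hfin := h.fin
  obtain ⟨g, h1, h2⟩ := exists_pair h hone hx hs hxs.symm (P := fun z => z = ev γ X5) (fun y hy => by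
      obtain ⟨c, hc⟩ := exists_rep_five h F hy
      exact ⟨c, congrArg Subtype.val hc⟩)
  rw [Nat.card_congr (centConj g h2).toEquiv]
  obtain ⟨N, hN⟩ := (sit5 h F).core
  refine hN.not_sq_dvd Nat.prime_three (k := 10) (by norm_num) (by norm_num) ?_ ?_
  · intro w hw hsw
    apply Subtype.ext
    refine base5 h F hone (n := 1) (mem_centralizer_singleton_iff.1 w.2) (congrArg Subtype.val hsw) ?_
    rw [pow_one]
    exact congrArg Subtype.val hw
  · intro hd
    have h3F : Fact (Nat.Prime 3) := ⟨Nat.prime_three⟩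
    rw [← card_mul_index (psi h c5 f).ker, index_ker, range_card5 h F] at hd
    obtain ⟨n, hn⟩ := IsPGroup.iff_card.1 (ker_two_psi h F c5)
    rw [hn] at hd
    have h4 : Nat.Coprime (3 ^ 2) (2 ^ n) := Nat.Coprime.pow_right n (by norm_num)
    have h5 := h4.dvd_of_dvd_mul_left hd
    revert h5
    norm_num

end

end Cfsg.Agent.ThFive.Gen
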