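import Cfsg.Agent.ThFive.Gen
import Cfsg.Agent.KFacts.Th.Main
import Cfsg.Agent.MonsterX.ThOneClass

/-!
# Th, `p = 5` (helper96): final statements

`x` of order 5 commuting with the involution `s` of `Th` (or of a group isomorphic to `Th`):
* `inv_eq_one` : a 3-element `v` which commutes with `x` and is inverted by `s` is trivial;
* `not_nine` : 9 does not divide `|C(x)|`.
-/

set_option autoImplicit false

namespace Cfsg.Agent.ThFive

open Subgroup Cfsg
open Cfsg.Agent.Th.IndexUpper

universe u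

theorem hone : ∀ u : Spor.Th, orderOf u = 2 → ∃ g : Spor.Th, g * u * g⁻¹ = gTh 1 := by
  intro u hu
  exact isConj_iff.1 (MonsterX.ThOneClass.oneClass u (gTh 1) hu MonsterX.ThOneClass.orderOf_a)

/-- **(A)** -/
theorem inv_eq_one {x s v : Spor.Th} {n : ℕ} (hx : orderOf x = 5) (hs : orderOf s = 2) (hxs : x * s = s * x)
    (hvx : v * x = x * v) (hsv : s * v * s⁻¹ = v⁻¹) (hv : v ^ 3 ^ n = 1) : v = 1 := by
  obtain ⟨f, F⟩ := CpAutTh.Local.exists_epi KFacts.Th.Main.ctx
  exact Gen.inv_eq_one KFacts.Th.Main.ctx F hone hx hs hxs hvx hsv hv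

/-- **(B)** -/
theorem not_nine {x s : Spor.Th} (hx : orderOf x = 5) (hs : orderOf s = 2) (hxs : x * s = s * x) :
    ¬ 9 ∣ Nat.card ↥(centralizer ({x} : Set Spor.Th)) := by
  obtain ⟨f, F⟩ := CpAutTh.Local.exists_epi KFacts.Th.Main.ctx
  exact Gen.not_nine KFacts.Th.Main.ctx F hone hx hs hxs

section Iso

variable {K : Type u} [Group K] (e : K ≃* Spor.Th)
include e

/-- **(A)** for a group isomorphic to `Th` -/
theorem inv_eq_one_iso {x s v : K} {n : ℕ} (hx : orderOf x = 5) (hs : orderOf s = 2) (hxs : x * s = s * x)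
    (hvx : v * x = x * v) (hsv : s * v * s⁻¹ = v⁻¹) (hv : v ^ 3 ^ n = 1) : v = 1 := by
  have h1 := inv_eq_one (x := e x) (s := e s) (v := e v) (n := n) (by rw [MulEquiv.orderOf_eq, hx])
    (by rw [MulEquiv.orderOf_eq, hs]) (by rw [← map_mul, hxs, map_mul]) (by rw [← map_mul, hvx, map_mul])
    (by rw [← map_mul, ← map_inv, ← map_mul, hsv, map_inv]) (by rw [← map_pow, hv, map_one])
  exact (MulEquiv.map_eq_one_iff e).1 h1

/-- **(B)** for a group isomorphic to `Th` -/
theorem not_nine_iso {x s : K} (hx : orderOf x = 5) (hs : orderOf s = 2) (hxs : x * s = s * x) :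
    ¬ 9 ∣ Nat.card ↥(centralizer ({x} : Set K)) := by
  have h1 := not_nine (x := e x) (s := e s) (by rw [MulEquiv.orderOf_eq, hx]) (by rw [MulEquiv.orderOf_eq, hs])
    (by rw [← map_mul, hxs, map_mul])
  have h2 : (centralizer ({x} : Set K)).map e.toMonoidHom = centralizer ({e x} : Set Spor.Th) := by
    ext y
    constructor
    · rintro ⟨a, ha, rfl⟩
      have ha' := mem_centralizer_singleton_iff.1 ha
      rw [mem_centralizer_singleton_iff]
      change e a * e x = e x * e a
      rw [← map_mul, ha', map_mul]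
    · intro hy
      rw [mem_centralizer_singleton_iff] at hy
      obtain ⟨a, rfl⟩ := e.surjective y
      refine ⟨a, ?_, rfl⟩
      rw [SetLike.mem_coe, mem_centralizer_singleton_iff]
      apply e.injective
      rw [map_mul, map_mul, hy]
  rw [← h2, card_map_of_injective e.injective] at h1
  exact h1

end Iso

end Cfsg.Agent.ThFive
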