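import Mathlib.LinearAlgebra.Determinant
import Mathlib.LinearAlgebra.FiniteDimensional.Basic
import Mathlib.LinearAlgebra.Dimension.Constructions
import Mathlib.Algebra.Module.ZMod
import Mathlib.GroupTheory.Subgroup.Center
import Mathlib.GroupTheory.PGroup
import Mathlib.FieldTheory.Finiteness
import Mathlib.Tactic

/-!
# Th, `p = 5` (helper96): faithful modules of the quaternion group of order 16 over `F_3`

`g ^ 4 = -1`, `h g h⁻¹ = g⁻¹` on a vector space over `F_3`: the dimension is divisible by 4.
-/

set_option autoImplicit false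

namespace Cfsg.Agent.ThFive

open Subgroup

section Lin

instance fact3 : Fact (Nat.Prime 3) := ⟨Nat.prime_three⟩

variable {V : Type*} [AddCommGroup V] [Module (ZMod 3) V] [Module.Finite (ZMod 3) V]

/-- `j ^ 2 = -1` : even dimension -/
theorem even_of_sq {j : Module.End (ZMod 3) V} (hj : j * j = -1) : 2 ∣ Module.finrank (ZMod 3) V := by
  by_contra hcon
  have h1 : LinearMap.det (j * j) = LinearMap.det j * LinearMap.det j := map_mul _ _ _
  have h2 : LinearMap.det (-1 : Module.End (ZMod 3) V) = (-1) ^ Module.finrank (ZMod 3) V := by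
    have h3 : (-1 : Module.End (ZMod 3) V) = (-1 : ZMod 3) • (1 : Module.End (ZMod 3) V) := by simp
    rw [h3, LinearMap.det_smul, map_one, mul_one]
  have h3 : Odd (Module.finrank (ZMod 3) V) := by
    rw [← Nat.not_even_iff_odd, even_iff_two_dvd]
    exact hcon
  rw [hj, h2, h3.neg_one_pow] at h1
  generalize LinearMap.det j = d at h1
  revert h1
  revert d
  decide

theorem three_smul (v : V) : v + v + v = 0 := by
  have h1 : (3 : ZMod 3) • v = 0 := by
    rw [show (3 : ZMod 3) = 0 from rfl, zero_smul]
  have h2 : (3 : ZMod 3) • v = v + v + v := by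
    rw [show (3 : ZMod 3) = 1 + 1 + 1 from rfl, add_smul, add_smul, one_smul]
  rw [← h2, h1]

theorem neg_eq (v : V) : v + v = -v := by
  have h := three_smul v
  exact eq_neg_of_add_eq_zero_left h

/-- **the dimension is divisible by 4** -/
theorem four_dvd {g g' h h' : Module.End (ZMod 3) V} (hg : ∀ v, g (g' v) = v) (hg' : ∀ v, g' (g v) = v)
    (hh : ∀ v, h (h' v) = v) (hh' : ∀ v, h' (h v) = v) (h4 : ∀ v, g (g (g (g v))) = -v)
    (hc : ∀ v, h (g v) = g' (h v)) : 4 ∣ Module.finrank (ZMod 3) V := by
  -- the two kernels
  let P : Module.End (ZMod 3) V := g * g + g - 1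
  let M : Module.End (ZMod 3) V := g * g - g - 1
  have hP : ∀ v, P v = g (g v) + g v - v := fun v => rfl
  have hM : ∀ v, M v = g (g v) - g v - v := fun v => rfl
  have mP : ∀ v, v ∈ LinearMap.ker P ↔ g (g v) = v - g v := by
    intro v
    rw [LinearMap.mem_ker, hP]
    constructor
    · intro h1
      linear_combination (norm := abel) h1
    · intro h1
      linear_combination (norm := abel) h1
  have mM : ∀ v, v ∈ LinearMap.ker M ↔ g (g v) = v + g v := by
    intro v
    rw [LinearMap.mem_ker, hM]
    constructor
    · intro h1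
      linear_combination (norm := abel) h1
    · intro h1
      linear_combination (norm := abel) h1
  have ginj : ∀ v, g v = 0 → v = 0 := by
    intro v hv
    have h1 := hg' v
    rw [hv, map_zero] at h1
    exact h1.symm
  have hinj : Function.Injective h := fun a b hab => by rw [← hh' a, hab, hh' b]
  -- `h` exchanges them
  have hPM : ∀ v, v ∈ LinearMap.ker P → h v ∈ LinearMap.ker M := by
    intro v hv
    rw [mP] at hv
    rw [mM]
    have h1 : h (g (g v)) = g' (g' (h v)) := by rw [hc, hc]
    rw [hv, map_sub, hc] at h1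
    -- h v - g' h v = g' g' h v
    have h2 := congrArg (fun w => g (g w)) h1
    simp only [map_sub, hg] at h2
    -- g g h v - g h v = h v
    linear_combination (norm := abel) h2
  have hMP : ∀ v, v ∈ LinearMap.ker M → h v ∈ LinearMap.ker P := by
    intro v hv
    rw [mM] at hv
    rw [mP]
    have h1 : h (g (g v)) = g' (g' (h v)) := by rw [hc, hc]
    rw [hv, map_add, hc] at h1
    have h2 := congrArg (fun w => g (g w)) h1
    simp only [map_add, hg] at h2
    linear_combination (norm := abel) h2
  have hcompl : IsCompl (LinearMap.ker P) (LinearMap.ker M) := by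
    constructor
    · rw [disjoint_iff, eq_bot_iff]
      rintro v ⟨h1, h2⟩
      have h1' := (mP v).1 h1
      have h2' := (mM v).1 h2
      rw [Submodule.mem_bot]
      apply ginj
      have h3 := three_smul (g v)
      have h5 : g v + g v = 0 := by
        rw [h1'] at h2'
        have h6 : v + g v - (v - g v) = 0 := by rw [← h2', sub_self]
        linear_combination (norm := abel) h6
      rw [h5, zero_add] at h3
      exact h3
    · rw [codisjoint_iff, eq_top_iff]
      intro v _
      rw [Submodule.mem_sup]
      refine ⟨g v - v - g' v, ?_, - g v - v + g' v, ?_, ?_⟩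
      · rw [mP]
        simp only [map_sub, hg]
        have h3 := h4 (g' v)
        simp only [hg] at h3
        rw [h3]
        have h5 := three_smul (g v)
        linear_combination (norm := abel) -h5
      · rw [mM]
        simp only [map_sub, map_add, map_neg, hg]
        have h3 := h4 (g' v)
        simp only [hg] at h3
        rw [h3]
        have h5 := three_smul (g v)
        linear_combination (norm := abel) h5
      · have h5 := neg_eq v
        have h6 : g v - v - g' v + (-g v - v + g' v) = -(v + v) := by abel
        rw [h6, h5, neg_neg]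
  have h1 := Submodule.finrank_add_eq_of_isCompl hcompl
  have hle1 : Module.finrank (ZMod 3) (LinearMap.ker P) ≤ Module.finrank (ZMod 3) (LinearMap.ker M) := by
    refine LinearMap.finrank_le_finrank_of_injective (f := h.restrict hPM) ?_
    intro a b hab
    exact Subtype.ext (hinj (congrArg Subtype.val hab))
  have hle2 : Module.finrank (ZMod 3) (LinearMap.ker M) ≤ Module.finrank (ZMod 3) (LinearMap.ker P) := by
    refine LinearMap.finrank_le_finrank_of_injective (f := h.restrict hMP) ?_
    intro a b hab
    exact Subtype.ext (hinj (congrArg Subtype.val hab))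
  have hgP : ∀ v, v ∈ LinearMap.ker P → g v ∈ LinearMap.ker P := by
    intro v hv
    rw [mP] at hv ⊢
    rw [hv, map_sub, hv]
  let r : Module.End (ZMod 3) (LinearMap.ker P) := g.restrict hgP
  have h2 : 2 ∣ Module.finrank (ZMod 3) (LinearMap.ker P) := by
    refine even_of_sq (j := r * r) ?_
    refine LinearMap.ext fun v => Subtype.ext ?_
    exact h4 v
  omega

end Lin

section Grp

variable {Q : Type*} [Group Q] [Finite Q]

/-- **the group version** -/
theorem card_eq_pow (A : Subgroup Q) [hn : A.Normal] (hA : ∀ a ∈ A, a ^ 3 = 1)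
    (hAc : ∀ a ∈ A, ∀ b ∈ A, a * b = b * a) {s g k : Q} (hs : ∀ a ∈ A, s * a * s⁻¹ = a⁻¹) (hg : g ^ 4 = s)
    (hk : k * g * k⁻¹ = g⁻¹) : ∃ n, Nat.card ↥A = 81 ^ n := by
  let _ : CommGroup ↥A := { (inferInstance : Group ↥A) with
    mul_comm := fun a b => Subtype.ext (hAc a a.2 b b.2) }
  let _ : Module (ZMod 3) (Additive ↥A) := AddCommGroup.zmodModule (n := 3) (fun x => by
    have h1 : (Additive.toMul x) ^ 3 = 1 := Subtype.ext (hA _ (Additive.toMul x).2)
    exact h1)
  have : Finite (Additive ↥A) := inferInstanceAs (Finite ↥A)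
  have : Module.Finite (ZMod 3) (Additive ↥A) := Module.Finite.of_finite
  let cj : Q → Module.End (ZMod 3) (Additive ↥A) := fun q =>
    AddMonoidHom.toZModLinearMap 3 (MonoidHom.toAdditive ((MulAut.conjNormal q : MulAut ↥A).toMonoidHom))
  have hcj : ∀ (q : Q) (v : Additive ↥A), ((Additive.toMul (cj q v) : ↥A) : Q) = q * (Additive.toMul v : ↥A) * q⁻¹ :=
    fun q v => MulAut.conjNormal_apply q _
  have hmul : ∀ (a b : Q) (v : Additive ↥A), cj a (cj b v) = cj (a * b) v := by
    intro a b v
    apply Additive.toMul.injective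
    apply Subtype.ext
    rw [hcj, hcj, hcj, mul_inv_rev]
    simp only [mul_assoc]
  have hone : ∀ v : Additive ↥A, cj 1 v = v := by
    intro v
    apply Additive.toMul.injective
    apply Subtype.ext
    rw [hcj, one_mul, inv_one, mul_one]
  have hneg : ∀ v : Additive ↥A, cj s v = -v := by
    intro v
    apply Additive.toMul.injective
    apply Subtype.ext
    rw [hcj, hs _ (Additive.toMul v : ↥A).2]
    rfl
  have h1 := four_dvd (V := Additive ↥A) (g := cj g) (g' := cj g⁻¹) (h := cj k) (h' := cj k⁻¹)
    (fun v => by rw [hmul, mul_inv_cancel, hone]) (fun v => by rw [hmul, inv_mul_cancel, hone])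
    (fun v => by rw [hmul, mul_inv_cancel, hone]) (fun v => by rw [hmul, inv_mul_cancel, hone])
    (fun v => by
      rw [hmul, hmul, hmul, ← hneg, ← hg]
      congr 2
      rw [pow_succ, pow_succ, pow_succ, pow_one]) (fun v => by
      rw [hmul, hmul]
      congr 2
      rw [← hk]
      group)
  obtain ⟨n, hn'⟩ := h1
  have h2 : Nat.card (Additive ↥A) = Nat.card (ZMod 3) ^ Module.finrank (ZMod 3) (Additive ↥A) :=
    Module.natCard_eq_pow_finrank (K := ZMod 3) (V := Additive ↥A)
  refine ⟨n, ?_⟩
  have h3 : Nat.card ↥A = Nat.card (Additive ↥A) := rfl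
  rw [h3, h2, hn', Nat.card_zmod, pow_mul]
  norm_num

end Grp

end Cfsg.Agent.ThFive
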